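import Cfsg.Agent.BH.Defs
import Cfsg.Agent.TO.InvSec
import Cfsg.Agent.TO.Can2

/-!
# BH (S4524): the boxes ORB and TWO (helper55)

The function of the span of `b` which lives on the section of `u` and belongs to the regular character of the local
block is averaged over a group of automorphisms.
-/

set_option autoImplicit false
set_option linter.unusedSectionVars false

namespace Cfsg.Agent.BH

namespace Orb

open Cfsg Cfsg.Agent.TO Cfsg.Agent.TO.Inv Cfsg.Agent.Blocks.Basic Cfsg.Agent.Blocks.Local Cfsg.Agent.Characters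

variable {K : Type} [Group K] {p : ℕ} [Fact p.Prime] {M : Ideal AlgInt} {b : Set (IrrCharacter K)}
  {Q : Subgroup K} {θ : K → ℂ}

section one

open Cfsg.Agent.H660.BlockTransport

theorem sub [Fintype K] (hM : IsPModular p M) {u v : K} (hu : PElt p u) [Fintype (Cu u)] [Fintype (Cu v)]
    {c : Set (IrrCharacter (Cu u))} {c' : Set (IrrCharacter (Cu v))} (hc : IsPBlock M c) (hc' : IsPBlock M c')
    {F F' : K → ℂ} (hF : IsSec p b u (reg c) F) (hF' : IsSec p b v (reg c') F') {γ : MulAut K} (hγ : γ ∈ Stab b)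
    (hne : classInner (F' ∘ γ) F ≠ 0) :
    ∃ g : K, (MulAut.conj g * γ) u = v ∧ ∀ ξ' ∈ c', ∃ ξ ∈ c, ∀ (x : Cu u) (y : Cu v),
      (y : K) = (MulAut.conj g * γ) x → ξ.1 x = ξ'.1 y := by
  have := isPrime_of_isPModular hM
  have h5 : IsConj v (γ u) := by
    by_contra hn
    exact hne (inner_of_not_conj hu hF hF' hγ hn)
  obtain ⟨g, hg⟩ := isConj_iff.1 h5.symm
  have hβ : MulAut.conj g * γ ∈ Stab b := mul_mem (Inv.conj_mem_Stab b g) hγ
  have e : (MulAut.conj g * γ) u = v := hg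
  have hβα : F' ∘ (MulAut.conj g * γ : MulAut K) = F' ∘ γ := by
    funext x
    exact V_class hF'.mem (γ x) g
  rw [← hβα, inner_of_eq hF hF' hβ e] at hne
  have h6 : blockMap (cuE _ e).symm c' = c := by
    by_contra hn
    exact hne (inner_disjoint (isPBlock_disjoint (isPBlock_blockMap _ hc') hc hn)
      (comp_mem_V_blockMap _ (pReg_mem hM hc' (reg_mem c'))) (pReg_mem hM hc (reg_mem c)))
  refine ⟨g, e, fun ξ' hξ' => ⟨irrMap (cuE _ e).symm ξ', h6 ▸ irrMap_mem_blockMap.2 hξ', ?_⟩⟩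
  intro x y hy
  rw [irrMap_apply]
  exact congrArg ξ'.1 (Subtype.ext hy.symm)

end one

section two

open Cfsg.Agent.H649 Cfsg.Agent.TO.Cn Subgroup

theorem adj [Finite K] (h : Can p M b Q θ) {u v : K} (hu : u ∈ Q) (hv : v ∈ Q)
    {c : Set (IrrCharacter (Cu u))} {c' : Set (IrrCharacter (Cu v))}
    (c2 : Can p M c (Q.subgroupOf (Cu u)) (fun x => θ x)) (c4 : Can p M c' (Q.subgroupOf (Cu v)) (fun x => θ x))
    {α : MulAut K} (a1 : α u = v)
    (a2 : ∀ ξ' ∈ c', ∃ ξ ∈ c, ∀ (x : Cu u) (y : Cu v), (y : K) = α x → ξ.1 x = ξ'.1 y) :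
    ∃ x : K, MulAut.conj x * α ∈ LA Q θ ∧ (MulAut.conj x * α) u = v := by
  have := h.prime
  have h3 : blkMap (cuIso α a1) c = c' := by
    obtain ⟨ξ', k1⟩ := isPBlock_nonempty c4.hb
    obtain ⟨ξ, k2, k3⟩ := a2 ξ' k1
    refine isPBlock_eq_of_mem (isPBlock_blkMap c2.hb) c4.hb (irrMap_mem_blkMap.2 k2) ?_
    have k4 : irrMap (cuIso α a1) ξ = ξ' := Subtype.ext (funext fun y => k3 _ y (α.apply_symm_apply y).symm)
    rw [k4]
    exact k1
  have h4 := c2.map (cuIso α a1)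
  rw [h3] at h4
  obtain ⟨x, x1, x2⟩ := c4.conj h4
  have out : ∀ y, y ∉ Cu u → (x : K) * α y * (x : K)⁻¹ ∉ Cu v := fun y hy h5 =>
    hy ((Cu_iff a1 y).1 ((mul_mem_cancel_left x.2).1 ((mul_mem_cancel_right (inv_mem x.2)).1 h5)))
  refine ⟨x, ⟨fun y => ?_, fun g => ?_⟩, ?_⟩
  · by_cases hy : y ∈ Cu u
    · exact (x1 (cuIso α a1 ⟨y, hy⟩)).trans (map_mem_map_iff (cuIso α a1) _ _)
    · exact ⟨fun h5 => absurd (Ce_le_Cu hv (h.ab h5)) (out y hy), fun h5 => absurd (Ce_le_Cu hu (h.ab h5)) hy⟩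
  · by_cases hg : g ∈ Cu u
    · have h5 := x2 (cuIso α a1 ⟨g, hg⟩)
      rw [MulEquiv.symm_apply_apply] at h5
      exact h5
    · rw [h.zero g fun h5 => hg (Ce_le_Cu hu h5)]
      exact h.zero _ fun h5 => out g hg (Ce_le_Cu hv h5)
  · show (x : K) * α u * (x : K)⁻¹ = v
    rw [a1, mem_centralizer_singleton_iff.1 x.2, mul_inv_cancel_right]

theorem stab_of [Finite K] (hM : IsPModular p M) (hb : IsPBlock M b) {χ : K → ℂ} (hχ : χ ∈ Fn b) {α : MulAut K}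
    (hα : χ ∘ α ∈ Fn b) : α ∈ Stab b := by
  have := isPrime_of_isPModular hM
  obtain ⟨ξ, h1, rfl⟩ := hχ
  obtain ⟨ξ', h2, h3⟩ := hα
  rw [mem_Stab_iff]
  refine isPBlock_eq_of_mem (isPBlock_blkMap hb) hb (irrMap_mem_blkMap.2 h2) ?_
  have k4 : irrMap α ξ' = ξ := Subtype.ext (funext fun y => by
    rw [irrMap_apply, h3, Function.comp_apply, MulEquiv.apply_symm_apply])
  rw [k4]
  exact h1

end two

/-- the function of the section of `u` -/
def Good (p : ℕ) (M : Ideal AlgInt) (b : Set (IrrCharacter K)) (Q : Subgroup K) (θ : K → ℂ) (u : K) [Fintype K]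
    [Fintype (Cu u)] (F : K → ℂ) : Prop :=
  ∃ c : Set (IrrCharacter (Cu u)), Can p M c (Q.subgroupOf (Cu u)) (fun x => θ x) ∧ IsSec p b u (reg c) F

theorem exists_good [Fintype K] (h : Can p M b Q θ) {u : K} (hu : u ∈ Q) [Fintype (Cu u)] :
    ∃ F, Good p M b Q θ u F := by
  obtain ⟨c, c1, c2⟩ := h.loc hu
  obtain ⟨F, hF⟩ := exists_sec h.hM (Cn.pElt h.pg hu) c1 (reg_mem c)
  exact ⟨F, c, c2, hF⟩

theorem key [Fintype K] (h : Can p M b Q θ) {u v : K} (hu : u ∈ Q) (hv : v ∈ Q) [Fintype (Cu u)] [Fintype (Cu v)]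
    {F F' : K → ℂ} (hF : Good p M b Q θ u F) (hF' : Good p M b Q θ v F') {γ : MulAut K} (hγ : γ ∈ Stab b)
    (hne : classInner (F' ∘ γ) F ≠ 0) :
    ∃ g : K, MulAut.conj g * γ ∈ LA Q θ ∧ (MulAut.conj g * γ) u = v := by
  obtain ⟨c, c2, hF⟩ := hF
  obtain ⟨c', c4, hF'⟩ := hF'
  obtain ⟨g, a1, a2⟩ := sub h.hM (Cn.pElt h.pg hu) c2.hb c4.hb hF hF' hγ hne
  obtain ⟨x, x1, x2⟩ := adj h hu hv c2 c4 a1 a2
  refine ⟨x * g, ?_, ?_⟩
  · rwa [map_mul, mul_assoc]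
  · rwa [map_mul, mul_assoc]

/-- the sum of the translates under `A` -/
noncomputable def avA (A : Subgroup (MulAut K)) [Fintype A] (F : K → ℂ) : K → ℂ := ∑ α : A, F ∘ (α : MulAut K)

section av

variable {A : Subgroup (MulAut K)} [Fintype A]

theorem avA_apply (F : K → ℂ) (g : K) : avA A F g = ∑ α : A, F ((α : MulAut K) g) := by
  unfold avA
  rw [Finset.sum_apply]
  rfl

theorem avA_mem (hA : A ≤ Stab b) {F : K → ℂ} (hF : F ∈ V b) : avA A F ∈ V b :=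
  Submodule.sum_mem _ fun α _ => comp_mem_V (hA α.2) hF

theorem avA_inv (F : K → ℂ) {β : MulAut K} (hβ : β ∈ A) : avA A F ∘ β = avA A F := by
  funext g
  rw [Function.comp_apply, avA_apply, avA_apply]
  exact Fintype.sum_equiv (Equiv.mulRight (⟨β, hβ⟩ : A)) _ _ fun α => rfl

theorem inner_avA [Fintype K] {X : K → ℂ} (hX : ∀ α ∈ A, X ∘ α = X) (F : K → ℂ) :
    classInner X (avA A F) = (Fintype.card A : ℂ) * classInner X F := by
  unfold avA
  rw [Core.classInner_sum_right]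
  have : ∀ α : A, classInner X (F ∘ (α : MulAut K)) = classInner X F := by
    intro α
    conv_lhs => rw [← hX α α.2]
    exact inner_comp _ _ _
  simp only [this]
  rw [Finset.sum_const, Finset.card_univ, nsmul_eq_mul]

theorem avA_self [Fintype K] {u : K} [Fintype (Cu u)] (hu : PElt p u) {f : Cu u → ℂ} {F : K → ℂ}
    (h : IsSec p b u f F) (hf : f 1 ≠ 0) : avA A F u ≠ 0 := by
  have h1 : F u = f 1 := by simpa using h.on 1 isPRegular_one
  rw [avA_apply]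
  intro hs
  refine hf (eq_zero_of_sum (fun α => ?_) 1 h1 hs)
  by_cases hc : IsConj u ((α : MulAut K) u)
  · right
    obtain ⟨g, hg⟩ := isConj_iff.1 hc
    rw [← hg, V_class h.mem, h1]
  · left
    refine h.off _ _ (Blocks.PPart.isPPart_of_isPGroup ?_) hc
    rw [MulEquiv.orderOf_eq]
    exact hu

end av

/-- an invariant of `A` is an invariant of every automorphism which keeps the orbits of `A` on `b` -/
theorem inv_of [Fintype K] {A : Subgroup (MulAut K)} {X : K → ℂ} (hX : X ∈ V b) (hi : ∀ β ∈ A, X ∘ β = X)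
    {α : MulAut K} (hα : α ∈ Stab b) (ho : ∀ χ ∈ Fn b, ∃ β ∈ A, χ ∘ α = χ ∘ β) :
    X ∘ (α⁻¹ : MulAut K) = X := by
  classical
  have : Finite (IrrCharacter K) := Core.finite_irr
  have := Fintype.ofFinite (IrrCharacter K)
  rw [V_expand (comp_mem_V (inv_mem hα) hX)]
  conv_rhs => rw [V_expand hX]
  refine Finset.sum_congr rfl fun χ hχ => ?_
  obtain ⟨β, hβ, e⟩ := ho χ.1 (mem_Fn.2 (by simpa using hχ))
  congr 1
  have e1 : (X ∘ (α⁻¹ : MulAut K)) ∘ α = X := funext fun g => by simp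
  rw [← inner_comp α, e1, e, ← inner_comp β X χ.1, hi β hβ]

/-- with at most two orbits the invariants which vanish at `1` lie on a line -/
theorem line [Finite K] {χ₁ χ₂ : K → ℂ} (m1 : χ₁ ∈ Fn b) (cov : ∀ f ∈ Fn b, f ∈ Orb b χ₁ ∨ f ∈ Orb b χ₂) :
    ∃ η : K → ℂ, ∀ F ∈ V b, (∀ α ∈ Stab b, F ∘ α = F) → F 1 = 0 → ∃ t : ℂ, F = t • η := by
  classical
  have := Fintype.ofFinite K
  have : Finite (IrrCharacter K) := Core.finite_irr
  have := Fintype.ofFinite (IrrCharacter K)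
  set S : Finset (IrrCharacter K) := Finset.univ.filter (· ∈ b) with hS
  set ψ₁ : K → ℂ := ∑ χ ∈ S with χ.1 ∈ Orb b χ₁, χ.1 with hψ₁
  set ψ₂ : K → ℂ := ∑ χ ∈ S with χ.1 ∉ Orb b χ₁, χ.1 with hψ₂
  obtain ⟨ξ₁, hξ₁, rfl⟩ := m1
  have hne : ψ₁ 1 ≠ 0 := by
    rw [hψ₁, Finset.sum_apply, Finset.sum_congr rfl (g := fun _ => ξ₁.1 1), Finset.sum_const,
      nsmul_eq_mul]
    · refine mul_ne_zero ?_ (irr_one_ne_zero ξ₁.2)
      rw [Nat.cast_ne_zero, Ne, Finset.card_eq_zero]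
      refine Finset.ne_empty_of_mem (a := ξ₁) ?_
      rw [Finset.mem_filter]
      exact ⟨by simpa [hS] using hξ₁, 1, one_mem _, rfl⟩
    · intro χ hχ
      obtain ⟨α, -, hα⟩ := (Finset.mem_filter.1 hχ).2
      rw [hα, Function.comp_apply, map_one]
  refine ⟨ψ₂ - (ψ₂ 1 / ψ₁ 1) • ψ₁, fun F hF hinv h1 => ⟨classInner F χ₂, ?_⟩⟩
  have hc : ∀ (f f' : K → ℂ), f' ∈ Orb b f → classInner F f' = classInner F f := by
    rintro f _ ⟨α, hα, rfl⟩
    conv_lhs => rw [← hinv α hα]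
    exact inner_comp _ _ _
  have hexp : F = classInner F ξ₁.1 • ψ₁ + classInner F χ₂ • ψ₂ := by
    conv_lhs => rw [V_expand hF]
    rw [← Finset.sum_filter_add_sum_filter_not S (fun χ => χ.1 ∈ Orb b ξ₁.1), hψ₁, hψ₂,
      Finset.smul_sum, Finset.smul_sum]
    congr 1
    · refine Finset.sum_congr rfl fun χ hχ => ?_
      rw [hc _ _ (Finset.mem_filter.1 hχ).2]
    · refine Finset.sum_congr rfl fun χ hχ => ?_
      obtain ⟨h2, h3⟩ := Finset.mem_filter.1 hχ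
      rw [hc _ _ ((cov χ.1 (mem_Fn.2 (by simpa [hS] using h2))).resolve_left h3)]
  have h2 : classInner F ξ₁.1 = -(classInner F χ₂ * (ψ₂ 1 / ψ₁ 1)) := by
    have h3 := congrFun hexp 1
    rw [h1] at h3
    simp only [Pi.add_apply, Pi.smul_apply, smul_eq_mul] at h3
    field_simp
    linear_combination -h3
  conv_lhs => rw [hexp, h2]
  funext g
  simp only [Pi.add_apply, Pi.sub_apply, Pi.smul_apply, smul_eq_mul]
  ring

/-- without three orbits the block is the union of two orbits of its stabiliser -/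
theorem two_of [Finite K] (hM : IsPModular p M) (hb : IsPBlock M b) (h3 : ¬ Three b) :
    ∃ χ₁ ∈ Fn b, ∃ χ₂ ∈ Fn b, ∀ f ∈ Fn b, f ∈ Orb b χ₁ ∨ f ∈ Orb b χ₂ := by
  have := isPrime_of_isPModular hM
  obtain ⟨ξ, hξ⟩ := isPBlock_nonempty hb
  have m1 := mem_Fn.2 hξ
  by_cases h1 : ∀ f ∈ Fn b, f ∈ Orb b ξ.1
  · exact ⟨_, m1, _, m1, fun f hf => Or.inl (h1 f hf)⟩
  push Not at h1
  obtain ⟨χ₂, m2, h2⟩ := h1
  refine ⟨_, m1, χ₂, m2, fun f hf => ?_⟩
  by_contra hn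
  rw [not_or] at hn
  refine h3 ⟨_, m1, _, m2, _, hf, fun α => ⟨fun e => h2 ?_, fun e => hn.1 ?_, fun e => hn.2 ?_⟩⟩
  · exact ⟨α, stab_of hM hb m1 (e ▸ m2), e.symm⟩
  · exact ⟨α, stab_of hM hb m1 (e ▸ hf), e.symm⟩
  · exact ⟨α, stab_of hM hb m2 (e ▸ hf), e.symm⟩

/-- ORB without the condition on the length of an orbit -/
theorem orb [Finite K] (h : Can p M b Q θ) {A : Subgroup (MulAut K)} (hI : Inn K ≤ A) (hA : A ≤ Stab b)
    {α : MulAut K} (hα : α ∈ LA Q θ) (ho : ∀ χ ∈ Fn b, ∃ β ∈ A, χ ∘ α = χ ∘ β) {u : K} (hu : u ∈ Q) :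
    ∃ β ∈ A ⊓ LA Q θ, α u = β u := by
  classical
  have := Fintype.ofFinite K
  have := h.prime
  have hv : α u ∈ Q := (hα.1 u).2 hu
  have := Fintype.ofFinite (Cu (α u))
  have := Fintype.ofFinite A
  have hs := h.le_Stab hα
  obtain ⟨F, hF⟩ := exists_good h hv
  have hF0 := hF
  obtain ⟨c, c2, hS⟩ := hF0
  have h3 : avA A F (α u) ≠ 0 := avA_self (Cn.pElt h.pg hv) hS (reg_one_ne (isPBlock_nonempty c2.hb))
  have h4 : classInner (avA A F) (avA A F) ≠ 0 := fun h0 => h3 (by rw [Core.classInner_self_eq_zero h0]; rfl)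
  rw [inner_avA (fun β hβ => avA_inv F hβ)] at h4
  have h5 := right_ne_zero_of_mul h4
  rw [← inv_of (avA_mem hA hS.mem) (fun β hβ => avA_inv F hβ) hs ho] at h5
  have h6 : avA A F ∘ (α⁻¹ : MulAut K) = ∑ β : A, F ∘ ((β : MulAut K) * α⁻¹ : MulAut K) := by
    funext g
    rw [Function.comp_apply, avA_apply, Finset.sum_apply]
    rfl
  rw [h6, Core.classInner_sum_left] at h5
  obtain ⟨β, -, hβ⟩ := Finset.exists_ne_zero_of_sum_ne_zero h5
  obtain ⟨g, g1, g2⟩ := key h hv hv hF hF (mul_mem (hA β.2) (inv_mem hs)) hβ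
  refine ⟨MulAut.conj g * β, ⟨mul_mem (hI ⟨g, rfl⟩) β.2, ?_⟩, ?_⟩
  · have := mul_mem g1 hα
    rwa [mul_assoc, inv_mul_cancel_right] at this
  · rw [← g2]
    simp

end Orb

open Cfsg Cfsg.Agent.TO Cfsg.Agent.TO.Inv Cfsg.Agent.Blocks.Basic Cfsg.Agent.Characters

/-- **[ORB]** -/
theorem boxORB {p : ℕ} [Fact p.Prime] {M : Ideal AlgInt} : BoxORB p M :=
  fun _ _ _ _ _ _ h _ _ hI h0 hA _ ho α hα _ hu =>
    Orb.orb h hI (h0.trans hA) hα.2 (fun χ hχ => ho χ hχ α hα.1) hu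

/-- **[TWO]** -/
theorem boxTWO {p : ℕ} [Fact p.Prime] {M : Ideal AlgInt} : BoxTWO p M := by
  intro K _ _ b Q θ h h3 u hu v hv hu1 hv1
  classical
  have := Fintype.ofFinite K
  have := Fintype.ofFinite (Cu u)
  have := Fintype.ofFinite (Cu v)
  have := Fintype.ofFinite (Stab b)
  have := h.prime
  obtain ⟨χ₁, m1, χ₂, -, cov⟩ := Orb.two_of h.hM h.hb h3
  obtain ⟨η, hη⟩ := Orb.line m1 cov
  obtain ⟨F, hG⟩ := Orb.exists_good h hu
  obtain ⟨F', hG'⟩ := Orb.exists_good h hv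
  have hG0 := hG
  have hG0' := hG'
  obtain ⟨c, c2, hF⟩ := hG0
  obtain ⟨c', c4, hF'⟩ := hG0'
  obtain ⟨t, ht⟩ := hη _ (av_mem hF.mem) (fun α hα => av_inv F hα) (av_reg hF hu1 isPRegular_one)
  obtain ⟨t', ht'⟩ := hη _ (av_mem hF'.mem) (fun α hα => av_inv F' hα) (av_reg hF' hv1 isPRegular_one)
  have k3 := av_self (Cn.pElt h.pg hu) hF (reg_one_ne (isPBlock_nonempty c2.hb))
  have k3' := av_self (Cn.pElt h.pg hv) hF' (reg_one_ne (isPBlock_nonempty c4.hb))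
  rw [ht, Pi.smul_apply, smul_eq_mul, mul_ne_zero_iff] at k3
  rw [ht', Pi.smul_apply, smul_eq_mul, mul_ne_zero_iff] at k3'
  have h4 : classInner (av b F') (av b F) ≠ 0 := by
    rw [ht, ht', Core.classInner_smul_left, Core.classInner_smul_right]
    refine mul_ne_zero k3'.1 (mul_ne_zero (by simpa using k3.1) fun h0 => k3.2 ?_)
    rw [Core.classInner_self_eq_zero h0]
    rfl
  rw [inner_av_right (fun α hα => av_inv F' hα), inner_av_left] at h4
  obtain ⟨α, -, hα⟩ := Finset.exists_ne_zero_of_sum_ne_zero (right_ne_zero_of_mul h4)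
  obtain ⟨g, g1, g2⟩ := Orb.key h hu hv hG hG' α.2 hα
  exact ⟨_, g1, g2⟩

end Cfsg.Agent.BH
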