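import Cfsg.Agent.BH.Orb.A

/-!
# BH (S4524): TRI and AUT from the rows (helper55)
-/

set_option autoImplicit false
set_option linter.unusedSectionVars false

namespace Cfsg.Agent.BH

open Cfsg Cfsg.Agent.TO Cfsg.Agent.KM.BK
open Cfsg.Agent.KM.Two (Idx)

namespace Orb

variable {K : Type} [Group K] [Finite K] {p : ℕ} [Fact p.Prime] {M : Ideal AlgInt} {b : Set (IrrCharacter K)}
  {Q : Subgroup K} {θ : K → ℂ} {S : Type} [Group S] {σ : K →* S}

/-- the statement of S4817 for groups in `Type` -/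
def T4817 (p : ℕ) (M : Ideal AlgInt) : Prop :=
  ∀ (K : Type) [Group K] [Finite K], IsQuasisimple K → ∀ (b : Set (IrrCharacter K)), IsPBlock M b →
    ∀ D : Subgroup K, IsDefectGroup p M b D → ¬ IsCyclic D →
    (∃ χ₁ ∈ b, ∃ χ₂ ∈ b, ∃ χ₃ ∈ b,
        (∀ α : K ≃* K, (fun s => (χ₂ : K → ℂ) (α s)) ≠ (χ₁ : K → ℂ)) ∧
        (∀ α : K ≃* K, (fun s => (χ₃ : K → ℂ) (α s)) ≠ (χ₁ : K → ℂ)) ∧
        (∀ α : K ≃* K, (fun s => (χ₃ : K → ℂ) (α s)) ≠ (χ₂ : K → ℂ))) ∨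
      (∀ χ ∈ b, ∀ ψ ∈ b, charDegree (χ : K → ℂ) = charDegree (ψ : K → ℂ))

theorem finite_S (H : QHyp p M b Q θ σ) : Finite S := Finite.of_surjective σ H.surj

theorem simple_S (H : QHyp p M b Q θ σ) : IsSimpleGroup S := by
  have := H.qs.2
  exact ((QuotientGroup.quotientMulEquivOfEq H.ker.symm).trans
    (QuotientGroup.quotientKerEquivOfSurjective σ H.surj)).symm.isSimpleGroup

theorem nonab_S (H : QHyp p M b Q θ σ) : ¬ IsMulCommutative S := by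
  intro hc
  have := simple_S H
  have h1 : commutator K = ⊤ := H.qs.1.commutator_eq_top
  have h2 : commutator K ≤ σ.ker := by
    rw [commutator_def, Subgroup.commutator_le]
    intro x _ y _
    rw [MonoidHom.mem_ker, map_commutatorElement, commutatorElement_eq_one_iff_mul_comm]
    exact hc.is_comm.comm _ _
  obtain ⟨s, hs⟩ := exists_ne (1 : S)
  obtain ⟨k, rfl⟩ := H.surj s
  exact hs (h2 (h1 ▸ Subgroup.mem_top k))

omit [Finite K] in
theorem le_of_nil (h : In Q θ ≤ Ce Q) : Q ≤ Ce (In Q θ) := fun _ hx =>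
  Subgroup.mem_centralizer_iff.2 fun _ ht => (Subgroup.mem_centralizer_iff.1 (h ht) _ hx).symm

omit [Finite K] in
theorem not_nil (h1 : Q ≠ ⊥) (h2 : Q ⊓ Ce (In Q θ) = ⊥) : ¬ In Q θ ≤ Ce Q := fun h =>
  h1 (by rw [← h2, inf_eq_left.2 (le_of_nil h)])

/-- equal degrees force a trivial inertial quotient -/
theorem nil_of_deg (h : Can p M b Q θ) (km : KMa p)
    (hd : ∀ χ ∈ b, ∀ ψ ∈ b, charDegree (χ : K → ℂ) = charDegree (ψ : K → ℂ)) : In Q θ ≤ Ce Q := by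
  have := Fintype.ofFinite K
  have := h.prime
  obtain ⟨ξ, hξ⟩ := Blocks.Basic.isPBlock_nonempty h.hb
  have h0 := eq_iff_hz.1 (km.pp h.hM K b Q h.hb h.hD h.comm)
  have h2 := (S4889.result p M h.hM b h.hb Q h.hD (ab_iff.1 h.comm) fun χ hχ => h0 χ hχ).1
    ⟨_, fun χ hχ => hd χ hχ ξ hξ⟩
  intro x hx
  obtain ⟨h3, h4⟩ := (h.mem_In_iff x).1 hx
  exact (S4687.result p M h.hM b Q _ h.hmax h.comm).1 h2 x h3 h4

/-- a cyclic `p`-group whose nontrivial elements are conjugate under automorphisms has order `p` -/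
theorem card_of_cyclic (hQ : IsPGroup p Q) (h1 : Q ≠ ⊥) (hc : IsCyclic Q)
    (ht : ∀ u ∈ Q, ∀ v ∈ Q, u ≠ 1 → v ≠ 1 → ∃ α : MulAut K, α u = v) : Nat.card Q = p := by
  obtain ⟨g, hg⟩ := hc.exists_ofOrder_eq_natCard
  obtain ⟨n, hn⟩ := IsPGroup.iff_card.1 hQ
  have hn0 : n ≠ 0 := by
    rintro rfl
    exact h1 (Subgroup.eq_bot_of_card_eq Q (by simpa using hn))
  obtain ⟨x, hx⟩ := exists_prime_orderOf_dvd_card' (G := Q) p (hn ▸ dvd_pow_self p hn0)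
  have hp : p ≠ 1 := (Fact.out : p.Prime).ne_one
  have hx1 : (x : K) ≠ 1 := fun e => hp (by rw [← hx, ← Subgroup.orderOf_coe, e, orderOf_one])
  have hg1 : (g : K) ≠ 1 := fun e => h1 (Subgroup.eq_bot_of_card_eq Q (by
    rw [← hg, ← Subgroup.orderOf_coe, e, orderOf_one]))
  obtain ⟨α, hα⟩ := ht x x.2 g g.2 hx1 hg1
  rw [← hg, ← Subgroup.orderOf_coe, ← hα, MulEquiv.orderOf_eq, Subgroup.orderOf_coe, hx]

theorem three_of {χ₁ χ₂ χ₃ : IrrCharacter K} (m1 : χ₁ ∈ b) (m2 : χ₂ ∈ b) (m3 : χ₃ ∈ b)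
    (h1 : ∀ α : K ≃* K, (fun s => (χ₂ : K → ℂ) (α s)) ≠ (χ₁ : K → ℂ))
    (h2 : ∀ α : K ≃* K, (fun s => (χ₃ : K → ℂ) (α s)) ≠ (χ₁ : K → ℂ))
    (h3 : ∀ α : K ≃* K, (fun s => (χ₃ : K → ℂ) (α s)) ≠ (χ₂ : K → ℂ)) : Three b :=
  ⟨_, Inv.mem_Fn.2 m3, _, Inv.mem_Fn.2 m2, _, Inv.mem_Fn.2 m1, fun α => ⟨h3 α, h2 α, h1 α⟩⟩

theorem tri_of (h17 : p ≠ 2 → IsPModular p M → T4817 p M) : BoxTRI p M := by
  intro hp K _ _ S _ σ b Q θ H h1 h2
  by_cases h3 : Three b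
  · exact Or.inl h3
  right
  left
  refine ⟨hp, ?_⟩
  by_cases hc : IsCyclic Q
  · refine card_of_cyclic H.can.pg h1 hc fun u hu v hv hu1 hv1 => ?_
    obtain ⟨α, -, hα⟩ := boxTWO K b Q θ H.can h3 u hu v hv hu1 hv1
    exact ⟨α, hα⟩
  · exfalso
    rcases h17 hp H.can.hM K H.qs b H.can.hb Q H.can.hD hc with ⟨χ₁, m1, χ₂, m2, χ₃, m3, k1, k2, k3⟩ | hd
    · exact h3 (three_of m1 m2 m3 k1 k2 k3)
    · exact not_nil h1 h2 (nil_of_deg H.can H.km hd)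

/-- a subgroup of order two is centralized by its normalizer -/
theorem nil_of_two (h : Nat.card Q = 2) : In Q θ ≤ Ce Q := by
  intro t ht
  rw [Subgroup.mem_centralizer_iff]
  intro q hq
  have h1 : t * q * t⁻¹ ∈ Q := ((Cn.mem_In.1 ht).1 q).2 hq
  by_cases h2 : q = 1
  · rw [h2, one_mul, mul_one]
  obtain ⟨y, -, hy⟩ := (Nat.card_eq_two_iff' (1 : Q)).1 h
  have h3 : (⟨q, hq⟩ : Q) = y := hy _ fun e => h2 (congrArg Subtype.val e)
  have h4 : (⟨_, h1⟩ : Q) = y := hy _ fun e => h2 (by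
    have := congrArg Subtype.val e
    simpa using this)
  have h5 : t * q * t⁻¹ = q := congrArg Subtype.val (h4.trans h3.symm)
  rw [← mul_inv_eq_iff_eq_mul.1 h5]

theorem card_of_idx (hQ : IsPGroup 2 Q) (h1 : Q ≠ ⊥) (h2 : Q ⊓ Ce (In Q θ) = ⊥) (hi : Idx Q θ) :
    Nat.card Q = 4 := by
  obtain ⟨R, r1, r2, r3⟩ := hi
  have h3 : R = ⊥ := by
    rw [eq_bot_iff, ← h2]
    refine le_inf r1 fun r hr => Subgroup.mem_centralizer_iff.2 fun t ht => ?_
    exact mul_inv_eq_iff_eq_mul.1 (r3 t ht r hr)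
  rw [h3, Subgroup.relIndex_bot_left] at r2
  obtain ⟨n, hn⟩ := IsPGroup.iff_card.1 hQ
  have h4 : n ≤ 2 := by
    rw [hn] at r2
    exact (Nat.pow_le_pow_iff_right (by norm_num : 1 < 2)).1 (r2.trans (by norm_num))
  interval_cases n
  · exact absurd (Subgroup.eq_bot_of_card_eq Q (by simpa using hn)) h1
  · exact absurd (nil_of_two (by simpa using hn)) (not_nil h1 h2)
  · simpa using hn

omit [Finite K] in
theorem aut_of_nil (h : In Q θ ≤ Ce Q) : AutOK p b Q θ := fun _ _ H =>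
  Or.inl fun α hα _ u hu => H.cz α hα u ⟨hu, le_of_nil h hu⟩

end Orb

/-- TRI for the prime two -/
theorem tri_two {M : Ideal AlgInt} (h : Row2For fun _ _ _ => True) : TRI 2 M := by
  intro K _ _ S _ σ b Q θ H h1 h2
  have := Orb.finite_S H
  have := Orb.simple_S H
  rcases h S (Orb.nonab_S H) trivial K σ M b Q θ H with k | k | k
  · exact absurd k (Orb.not_nil h1 h2)
  · exact Or.inr (Or.inr ⟨rfl, Orb.card_of_idx H.can.pg h1 h2 k.1⟩)
  · exact Or.inl k.1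

/-- AUT for the prime two -/
theorem aut_two {M : Ideal AlgInt} (h : Row2For fun _ _ _ => True) (V4 : BoxV4 M) : AUT 2 M := by
  intro K _ _ S _ σ b Q θ H
  have := Orb.finite_S H
  have := Orb.simple_S H
  rcases h S (Orb.nonab_S H) trivial K σ M b Q θ H with k | k | k
  · exact Orb.aut_of_nil k
  · exact V4 K S σ b Q θ H k.1 k.2
  · exact k.2

/-- AUT for the odd primes -/
theorem aut_odd {p : ℕ} [Fact p.Prime] {M : Ideal AlgInt} (hp : p ≠ 2) (h : RowOFor fun _ _ _ => True) :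
    AUT p M := by
  intro K _ _ S _ σ b Q θ H
  have := Orb.finite_S H
  have := Orb.simple_S H
  exact h p hp S (Orb.nonab_S H) trivial K σ M b Q θ H

end Cfsg.Agent.BH
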